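import Groth.Agent.CMFlatLib.BaseChange
import Groth.Agent.CMFlatLib.FibreNoeth
import Groth.Agent.DimFormulaLib.Field
import Groth.Prelude

/-!
Cohen–Macaulay local rings and extensions of the ground field.
-/

set_option autoImplicit false
set_option backward.isDefEq.respectTransparency false
set_option linter.style.haveILetI false
universe u

open CategoryTheory CategoryTheory.Limits AlgebraicGeometry

namespace Groth.Agent.CMFlatLib

/-- Over a field the Cohen–Macaulay fibre condition is Cohen–Macaulayness of the local ring. -/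
theorem cmFibre_field_iff {k : Type u} [Field k] {X : Scheme.{u}} (f : X ⟶ Spec (CommRingCat.of k)) (x : X) :
    CMFibre (f.stalkMap x).hom ↔ LocCoh.IsCohenMacaulayLocalRing (X.presheaf.stalk x) := by
  have h0 : (Ideal.span (nonunits ((Spec (CommRingCat.of k)).presheaf.stalk (f x)))).map (f.stalkMap x).hom = ⊥ := by
    rw [span_nonunits, IsLocalRing.isField_iff_maximalIdeal_eq.1 (DimFormulaLib.isField_stalk k (f x)).1, Ideal.map_bot]
  let e := (Ideal.quotEquivOfEq h0).trans (RingEquiv.quotientBot (X.presheaf.stalk x))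
  exact ⟨fun h => haveI : LocCoh.IsCohenMacaulayLocalRing _ := h; CMCat.isCohenMacaulayLocalRing_of_ringEquiv e,
    fun h => CMCat.isCohenMacaulayLocalRing_of_ringEquiv e.symm⟩

theorem noethFibre_field {k : Type u} [Field k] {X : Scheme.{u}} [IsLocallyNoetherian X]
    (f : X ⟶ Spec (CommRingCat.of k)) (x : X) : NoethFibre (f.stalkMap x).hom := by
  show IsNoetherianRing (X.presheaf.stalk x ⧸ _)
  infer_instance

/-- Cohen–Macaulayness is insensitive to extensions of the ground field. -/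
theorem cm_bc_iff {k : Type u} [Field k] (X : Scheme.{u}) [X.Over (Spec (CommRingCat.of k))]
    [LocallyOfFiniteType (X ↘ (Spec (CommRingCat.of k)))] (k' : Type u) [Field k'] [Algebra k k']
    (x' : ↥(Curv2.bc k X k')) :
    LocCoh.IsCohenMacaulayLocalRing ↥(X.presheaf.stalk (Curv2.bcFst k X k' x')) ↔
      LocCoh.IsCohenMacaulayLocalRing ↥((Curv2.bc k X k').presheaf.stalk x') := by
  haveI := LocallyOfFiniteType.isLocallyNoetherian (X ↘ (Spec (CommRingCat.of k)))
  rw [← cmFibre_field_iff (X ↘ (Spec (CommRingCat.of k))), ← cmFibre_field_iff (Curv2.bcSnd k X k') x']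
  exact (cmFibre_isPullback_iff (IsPullback.of_hasPullback _ _) x'
    (noethFibre_field _ _) (Or.inr inferInstance)).symm


/-- The fibre condition is insensitive to base changes essentially of finite type. -/
theorem cmFibre_isPullback_iff_essFiniteType {X Y X' Y' : Scheme.{u}} {f : X ⟶ Y} {g : Y' ⟶ Y} {g' : X' ⟶ X}
    {f' : X' ⟶ Y'} (hc : IsPullback g' f' f g) (x' : X') (hN : NoethFibre (f.stalkMap (g' x')).hom)
    (hess : ∀ (V : Y.Opens) (V' : Y'.Opens), IsAffineOpen V → IsAffineOpen V' → ∀ e : V' ≤ g ⁻¹ᵁ V,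
      (g.appLE V V' e).hom.EssFiniteType) :
    CMFibre (f'.stalkMap x').hom ↔ CMFibre (f.stalkMap (g' x')).hom := by
  obtain ⟨V, W, V', hV, hW, hV', e, e', hxW, hxV'⟩ := PullbackMod.exists_affines hc x'
  obtain ⟨hW', hpo⟩ := PullbackMod.isPushout_appLE hc hV hW hV' e e'
  have hx' : x' ∈ g' ⁻¹ᵁ W ⊓ f' ⁻¹ᵁ V' := ⟨hxW, hxV'⟩
  letI : Algebra Γ(Y, V) Γ(X, W) := (f.appLE V W e).hom.toAlgebra
  letI : Algebra Γ(Y, V) Γ(Y', V') := (g.appLE V V' e').hom.toAlgebra
  letI : Algebra Γ(X, W) Γ(X', g' ⁻¹ᵁ W ⊓ f' ⁻¹ᵁ V') := (g'.appLE W _ inf_le_left).hom.toAlgebra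
  letI : Algebra Γ(Y', V') Γ(X', g' ⁻¹ᵁ W ⊓ f' ⁻¹ᵁ V') := (f'.appLE V' _ inf_le_right).hom.toAlgebra
  letI : Algebra Γ(Y, V) Γ(X', g' ⁻¹ᵁ W ⊓ f' ⁻¹ᵁ V') :=
    ((g'.appLE W _ inf_le_left).hom.comp (f.appLE V W e).hom).toAlgebra
  haveI : IsScalarTower Γ(Y, V) Γ(X, W) Γ(X', g' ⁻¹ᵁ W ⊓ f' ⁻¹ᵁ V') := .of_algebraMap_eq fun _ => rfl
  haveI : IsScalarTower Γ(Y, V) Γ(Y', V') Γ(X', g' ⁻¹ᵁ W ⊓ f' ⁻¹ᵁ V') := .of_algebraMap_eq' (by
      show ((f.appLE V W e) ≫ g'.appLE W _ inf_le_left).hom =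
        ((g.appLE V V' e') ≫ f'.appLE V' _ inf_le_right).hom
      simp only [Scheme.Hom.appLE_comp_appLE, hc.w])
  haveI : Algebra.IsPushout Γ(Y, V) Γ(Y', V') Γ(X, W) Γ(X', g' ⁻¹ᵁ W ⊓ f' ⁻¹ᵁ V') := hpo
  let q' := (hW'.primeIdealOf ⟨x', hx'⟩).asIdeal
  let q := (hW.primeIdealOf ⟨g' x', hxW⟩).asIdeal
  let p' := (hV'.primeIdealOf ⟨f' x', hxV'⟩).asIdeal
  let p := (hV.primeIdealOf ⟨f (g' x'), e hxW⟩).asIdeal
  haveI : q.LiesOver p := ⟨congr($(IsAffineOpen.comap_primeIdealOf_appLE V hV W hW e hxW).1).symm⟩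
  haveI : q'.LiesOver p' := ⟨congr($(IsAffineOpen.comap_primeIdealOf_appLE V' hV' _ hW' inf_le_right hx').1).symm⟩
  haveI : q'.LiesOver q := ⟨congr($(IsAffineOpen.comap_primeIdealOf_appLE W hW _ hW' inf_le_left hx').1).symm⟩
  haveI : p'.LiesOver p := by
    have h1 : p = q'.under Γ(Y, V) := (Ideal.LiesOver.trans q' q p).over
    exact ⟨h1.trans (Ideal.LiesOver.trans q' p' (p'.under Γ(Y, V))).over.symm⟩
  haveI := isNoetherianRing_of_noethFibre p q
    ((appLE_stalkMap_iff respectsIso_noethFibre f hV hW e _ hxW).1 hN)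
  have hA : Algebra.EssFiniteType Γ(Y, V) Γ(Y', V') ∨ Algebra.EssFiniteType Γ(Y, V) Γ(X, W) :=
    Or.inl (hess V V' hV hV' e')
  rw [appLE_stalkMap_iff respectsIso_cmFibre f hV hW e _ hxW,
    appLE_stalkMap_iff respectsIso_cmFibre f' hV' hW' inf_le_right x' hx']
  exact cmFibre_baseChange_iff p p' q q' hA


theorem essFiniteType_spec_appLE {k k' : Type u} [Field k] [Field k'] [Algebra k k']
    [Algebra.EssFiniteType k k'] (V : (Spec (CommRingCat.of k)).Opens) (V' : (Spec (CommRingCat.of k')).Opens)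
    (hV' : IsAffineOpen V') (e : V' ≤ Spec.map (CommRingCat.ofHom (algebraMap k k')) ⁻¹ᵁ V) :
    ((Spec.map (CommRingCat.ofHom (algebraMap k k'))).appLE V V' e).hom.EssFiniteType := by
  let g := Spec.map (CommRingCat.ofHom (algebraMap k k'))
  by_cases hne : (V' : Set (Spec (CommRingCat.of k'))).Nonempty
  · obtain ⟨z, hz⟩ := hne
    have h1 : V' = ⊤ := top_le_iff.1 fun w _ => (Subsingleton.elim (α := PrimeSpectrum k') z w) ▸ hz
    have h2 : V = ⊤ := top_le_iff.1 fun w _ => (Subsingleton.elim (α := PrimeSpectrum k) (g z) w) ▸ e hz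
    subst h1 h2
    rw [show g.appLE ⊤ ⊤ e = g.appTop from g.appLE_eq_app]
    have h3 : g.appTop = (Scheme.ΓSpecIso _).hom ≫ CommRingCat.ofHom (algebraMap k k') ≫ (Scheme.ΓSpecIso _).inv := by
      rw [← Scheme.ΓSpecIso_naturality_assoc, Iso.hom_inv_id, Category.comp_id]
    rw [h3]
    refine RingHom.EssFiniteType.comp (RingHom.FiniteType.of_surjective _
      (Scheme.ΓSpecIso _).commRingCatIsoToRingEquiv.surjective).essFiniteType
      (RingHom.EssFiniteType.comp (RingHom.essFiniteType_algebraMap.2 inferInstance) (RingHom.FiniteType.of_surjective _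
      (Scheme.ΓSpecIso _).symm.commRingCatIsoToRingEquiv.surjective).essFiniteType)
  · haveI : Subsingleton Γ(Spec (CommRingCat.of k'), V') := by
      rw [show V' = ⊥ from TopologicalSpace.Opens.ext (Set.not_nonempty_iff_eq_empty.1 hne)]
      infer_instance
    exact (RingHom.FiniteType.of_surjective _ fun b => ⟨0, Subsingleton.elim _ _⟩).essFiniteType

/-- Cohen–Macaulayness is insensitive to finitely generated extensions of the ground field. -/
theorem cm_bc_iff_fg {k : Type u} [Field k] (X : Scheme.{u}) [X.Over (Spec (CommRingCat.of k))]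
    [IsLocallyNoetherian X] (k' : Type u) [Field k'] [Algebra k k'] [Algebra.EssFiniteType k k']
    (x' : ↥(Curv2.bc k X k')) :
    LocCoh.IsCohenMacaulayLocalRing ↥(X.presheaf.stalk (Curv2.bcFst k X k' x')) ↔
      LocCoh.IsCohenMacaulayLocalRing ↥((Curv2.bc k X k').presheaf.stalk x') := by
  rw [← cmFibre_field_iff (X ↘ (Spec (CommRingCat.of k))), ← cmFibre_field_iff (Curv2.bcSnd k X k') x']
  exact (cmFibre_isPullback_iff_essFiniteType (IsPullback.of_hasPullback _ _) x'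
    (noethFibre_field _ _) fun V V' _ hV' e => essFiniteType_spec_appLE V V' hV' e).symm

end Groth.Agent.CMFlatLib
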